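import Cfsg.Agent.Lib.Helper13.SUSmall.Defs5d
import Cfsg.Agent.Lib.Helper86.SUSmall.E3cD

/-! su_small piece E3dD, light version (helper23, after helper13): model definitions for
`3.M_10 < SU_3(5)`; the heavy checks are done on natural number codes in the later files. -/

set_option autoImplicit false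
set_option linter.unusedSectionVars false

namespace Cfsg.Agent.Lib.Helper23.SUSmall

open Cfsg Cfsg.Geo Matrix Cfsg.Agent.Lib.Helper5.SUAsch Cfsg.Agent.Lib.Helper86.SUSmall.E3c
open Cfsg.Agent.Lib.Helper13.SUSmall
open scoped MatrixGroups

namespace E3d

def Xm : M3 := !![⟨0, 0⟩, ⟨0, 0⟩, ⟨1, 0⟩; ⟨1, 0⟩, ⟨0, 0⟩, ⟨0, 0⟩; ⟨0, 0⟩, ⟨1, 0⟩, ⟨0, 0⟩]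

def Zm (w : K25) : M3 := !![⟨1, 0⟩, ⟨0, 0⟩, ⟨0, 0⟩; ⟨0, 0⟩, w, ⟨0, 0⟩; ⟨0, 0⟩, ⟨0, 0⟩, w ^ 2]

def word (w : K25) (p : ℕ × ℕ × ℕ) : M3 :=
  Xm ^ p.1 * (Zm w) ^ p.2.1 * (Xm * Zm w * Xm ^ 2 * (Zm w) ^ 2) ^ p.2.2

def idx : List (ℕ × ℕ × ℕ) :=
  [(0,0,0),(0,0,1),(0,0,2),(0,1,0),(0,1,1),(0,1,2),(0,2,0),(0,2,1),(0,2,2),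
   (1,0,0),(1,0,1),(1,0,2),(1,1,0),(1,1,1),(1,1,2),(1,2,0),(1,2,1),(1,2,2),
   (2,0,0),(2,0,1),(2,0,2),(2,1,0),(2,1,1),(2,1,2),(2,2,0),(2,2,1),(2,2,2)]

def Llit : List M3 :=
  [!![⟨1, 0⟩, ⟨0, 0⟩, ⟨0, 0⟩; ⟨0, 0⟩, ⟨1, 0⟩, ⟨0, 0⟩; ⟨0, 0⟩, ⟨0, 0⟩, ⟨1, 0⟩],
   !![⟨1, 0⟩, ⟨0, 0⟩, ⟨0, 0⟩; ⟨0, 0⟩, ⟨2, 2⟩, ⟨0, 0⟩; ⟨0, 0⟩, ⟨0, 0⟩, ⟨2, 3⟩],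
   !![⟨1, 0⟩, ⟨0, 0⟩, ⟨0, 0⟩; ⟨0, 0⟩, ⟨2, 3⟩, ⟨0, 0⟩; ⟨0, 0⟩, ⟨0, 0⟩, ⟨2, 2⟩],
   !![⟨0, 0⟩, ⟨0, 0⟩, ⟨1, 0⟩; ⟨1, 0⟩, ⟨0, 0⟩, ⟨0, 0⟩; ⟨0, 0⟩, ⟨1, 0⟩, ⟨0, 0⟩],
   !![⟨0, 0⟩, ⟨0, 0⟩, ⟨2, 3⟩; ⟨1, 0⟩, ⟨0, 0⟩, ⟨0, 0⟩; ⟨0, 0⟩, ⟨2, 2⟩, ⟨0, 0⟩],
   !![⟨0, 0⟩, ⟨0, 0⟩, ⟨2, 2⟩; ⟨1, 0⟩, ⟨0, 0⟩, ⟨0, 0⟩; ⟨0, 0⟩, ⟨2, 3⟩, ⟨0, 0⟩],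
   !![⟨0, 0⟩, ⟨1, 0⟩, ⟨0, 0⟩; ⟨0, 0⟩, ⟨0, 0⟩, ⟨1, 0⟩; ⟨1, 0⟩, ⟨0, 0⟩, ⟨0, 0⟩],
   !![⟨0, 0⟩, ⟨2, 2⟩, ⟨0, 0⟩; ⟨0, 0⟩, ⟨0, 0⟩, ⟨2, 3⟩; ⟨1, 0⟩, ⟨0, 0⟩, ⟨0, 0⟩],
   !![⟨0, 0⟩, ⟨2, 3⟩, ⟨0, 0⟩; ⟨0, 0⟩, ⟨0, 0⟩, ⟨2, 2⟩; ⟨1, 0⟩, ⟨0, 0⟩, ⟨0, 0⟩],
   !![⟨2, 2⟩, ⟨0, 0⟩, ⟨0, 0⟩; ⟨0, 0⟩, ⟨2, 2⟩, ⟨0, 0⟩; ⟨0, 0⟩, ⟨0, 0⟩, ⟨2, 2⟩],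
   !![⟨2, 2⟩, ⟨0, 0⟩, ⟨0, 0⟩; ⟨0, 0⟩, ⟨2, 3⟩, ⟨0, 0⟩; ⟨0, 0⟩, ⟨0, 0⟩, ⟨1, 0⟩],
   !![⟨2, 2⟩, ⟨0, 0⟩, ⟨0, 0⟩; ⟨0, 0⟩, ⟨1, 0⟩, ⟨0, 0⟩; ⟨0, 0⟩, ⟨0, 0⟩, ⟨2, 3⟩],
   !![⟨0, 0⟩, ⟨0, 0⟩, ⟨2, 2⟩; ⟨2, 2⟩, ⟨0, 0⟩, ⟨0, 0⟩; ⟨0, 0⟩, ⟨2, 2⟩, ⟨0, 0⟩],
   !![⟨0, 0⟩, ⟨0, 0⟩, ⟨1, 0⟩; ⟨2, 2⟩, ⟨0, 0⟩, ⟨0, 0⟩; ⟨0, 0⟩, ⟨2, 3⟩, ⟨0, 0⟩],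
   !![⟨0, 0⟩, ⟨0, 0⟩, ⟨2, 3⟩; ⟨2, 2⟩, ⟨0, 0⟩, ⟨0, 0⟩; ⟨0, 0⟩, ⟨1, 0⟩, ⟨0, 0⟩],
   !![⟨0, 0⟩, ⟨2, 2⟩, ⟨0, 0⟩; ⟨0, 0⟩, ⟨0, 0⟩, ⟨2, 2⟩; ⟨2, 2⟩, ⟨0, 0⟩, ⟨0, 0⟩],
   !![⟨0, 0⟩, ⟨2, 3⟩, ⟨0, 0⟩; ⟨0, 0⟩, ⟨0, 0⟩, ⟨1, 0⟩; ⟨2, 2⟩, ⟨0, 0⟩, ⟨0, 0⟩],
   !![⟨0, 0⟩, ⟨1, 0⟩, ⟨0, 0⟩; ⟨0, 0⟩, ⟨0, 0⟩, ⟨2, 3⟩; ⟨2, 2⟩, ⟨0, 0⟩, ⟨0, 0⟩],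
   !![⟨2, 3⟩, ⟨0, 0⟩, ⟨0, 0⟩; ⟨0, 0⟩, ⟨2, 3⟩, ⟨0, 0⟩; ⟨0, 0⟩, ⟨0, 0⟩, ⟨2, 3⟩],
   !![⟨2, 3⟩, ⟨0, 0⟩, ⟨0, 0⟩; ⟨0, 0⟩, ⟨1, 0⟩, ⟨0, 0⟩; ⟨0, 0⟩, ⟨0, 0⟩, ⟨2, 2⟩],
   !![⟨2, 3⟩, ⟨0, 0⟩, ⟨0, 0⟩; ⟨0, 0⟩, ⟨2, 2⟩, ⟨0, 0⟩; ⟨0, 0⟩, ⟨0, 0⟩, ⟨1, 0⟩],
   !![⟨0, 0⟩, ⟨0, 0⟩, ⟨2, 3⟩; ⟨2, 3⟩, ⟨0, 0⟩, ⟨0, 0⟩; ⟨0, 0⟩, ⟨2, 3⟩, ⟨0, 0⟩],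
   !![⟨0, 0⟩, ⟨0, 0⟩, ⟨2, 2⟩; ⟨2, 3⟩, ⟨0, 0⟩, ⟨0, 0⟩; ⟨0, 0⟩, ⟨1, 0⟩, ⟨0, 0⟩],
   !![⟨0, 0⟩, ⟨0, 0⟩, ⟨1, 0⟩; ⟨2, 3⟩, ⟨0, 0⟩, ⟨0, 0⟩; ⟨0, 0⟩, ⟨2, 2⟩, ⟨0, 0⟩],
   !![⟨0, 0⟩, ⟨2, 3⟩, ⟨0, 0⟩; ⟨0, 0⟩, ⟨0, 0⟩, ⟨2, 3⟩; ⟨2, 3⟩, ⟨0, 0⟩, ⟨0, 0⟩],
   !![⟨0, 0⟩, ⟨1, 0⟩, ⟨0, 0⟩; ⟨0, 0⟩, ⟨0, 0⟩, ⟨2, 2⟩; ⟨2, 3⟩, ⟨0, 0⟩, ⟨0, 0⟩],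
   !![⟨0, 0⟩, ⟨2, 2⟩, ⟨0, 0⟩; ⟨0, 0⟩, ⟨0, 0⟩, ⟨1, 0⟩; ⟨2, 3⟩, ⟨0, 0⟩, ⟨0, 0⟩]]


def w1 : K25 := ⟨2, 2⟩
def w2 : K25 := ⟨2, 3⟩

theorem roots : ∀ w : K25, w ^ 2 + w + 1 = 0 → w = w1 ∨ w = w2 := by decide +kernel

theorem F5 : (1 : M3) ∈ Llit := by decide +kernel
theorem F6 : Xm ∈ Llit := by decide +kernel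
theorem F7a : Zm w1 ∈ Llit := by decide +kernel
theorem F7b : Zm w2 ∈ Llit := by decide +kernel

def Gd : M3 := !![⟨0, 1⟩, ⟨0, 0⟩, ⟨0, 1⟩; ⟨3, 0⟩, ⟨0, 4⟩, ⟨2, 0⟩; ⟨2, 0⟩, ⟨0, 4⟩, ⟨3, 0⟩]
def Gi : M3 := !![⟨0, 4⟩, ⟨3, 0⟩, ⟨2, 0⟩; ⟨0, 0⟩, ⟨0, 1⟩, ⟨0, 1⟩; ⟨0, 4⟩, ⟨2, 0⟩, ⟨3, 0⟩]

theorem Gd_Gi : Gd * Gi = 1 := by decide +kernel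
theorem Gi_Gd : Gi * Gd = 1 := by decide +kernel
theorem Gd_unitary : Gdᵀ * Gd.map (· ^ 5) = 1 := by decide +kernel
theorem Gd_det : Gd.det = 1 := by rw [Matrix.det_fin_three]; decide +kernel
theorem Gd_not : Gd * Xm * Gi ∉ Llit := by decide +kernel

/-- the cubic form in the model -/
def cubm (A : M3) (a b c : K25) : K25 :=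
  d3 a b c (lin A 0 a b c) (lin A 1 a b c) (lin A 2 a b c)
    (lin A 0 (lin A 0 a b c) (lin A 1 a b c) (lin A 2 a b c))
    (lin A 1 (lin A 0 a b c) (lin A 1 a b c) (lin A 2 a b c))
    (lin A 2 (lin A 0 a b c) (lin A 1 a b c) (lin A 2 a b c))

def C27 (a b c : K25) : Prop :=
  hf3 a b c a b c ≠ 0 ∧ ∀ A ∈ Llit, (cubm A a b c) ^ 10 = (cubm A a b c) ^ 2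

instance (a b c : K25) : Decidable (C27 a b c) := by unfold C27; infer_instance


end E3d

end Cfsg.Agent.Lib.Helper23.SUSmall
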